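import Groth.Agent.SuppFamLib.Exact

/-!
# Flasque sheaves and cohomology with supports in a closed subset
-/

set_option autoImplicit false
set_option linter.style.haveILetI false

universe u

open CategoryTheory CategoryTheory.Limits Opposite TopologicalSpace TopCat

noncomputable section

namespace Groth.Agent.FlasqueSupp

open SuppFamLib

variable {X : TopCat.{u}} (U : Opens X)

local notation "JX" => Opens.grothendieckTopology X

/-- Sections with supports inside the sections. -/
def incl (F : CohTop.Ab X) (V : Opens X) :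
    ((LocCohZ.sectSuppF U).obj F).obj.obj (op V) →+ F.obj.obj (op V) :=
  ((kernel.ι ((TopCat.Sheaf.pullbackPushforwardAdjunction AddCommGrpCat.{u} (CohCx.incl U)).unit.app F)).hom.app
    (op V)).hom

theorem incl_injective (F : CohTop.Ab X) (V : Opens X) : Function.Injective (incl U F V) :=
  kernel_ι_injective _ V

theorem range_incl (F : CohTop.Ab X) (V : Opens X) (s : F.obj.obj (op V)) :
    (∃ t, incl U F V t = s) ↔ F.obj.map (homOfLE (inf_le_right : U ⊓ V ≤ V)).op s = 0 :=
  (exists_kernel_section_iff _ V s).trans (unit_app_eq_zero_iff U F V s)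

theorem incl_map {F G : CohTop.Ab X} (g : F ⟶ G) (V : Opens X)
    (t : ((LocCohZ.sectSuppF U).obj F).obj.obj (op V)) :
    incl U G V ((((LocCohZ.sectSuppF U).map g).hom.app (op V)).hom t) =
      (g.hom.app (op V)).hom (incl U F V t) := by
  let ι := fun E : CohTop.Ab X =>
    kernel.ι ((TopCat.Sheaf.pullbackPushforwardAdjunction AddCommGrpCat.{u} (CohCx.incl U)).unit.app E)
  have hk : (LocCohZ.sectSuppF U).map g ≫ ι G = ι F ≫ g := kernel.lift_ι _ _ _
  exact congrArg (fun a => (a.hom.app (op V)).hom t) hk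

theorem exact_map_and_mono {S : ShortComplex (CohTop.Ab X)} (hS : S.ShortExact) :
    (S.map (LocCohZ.sectSuppF U)).Exact ∧ Mono ((LocCohZ.sectSuppF U).map S.f) := by
  haveI := hS.mono_f
  have hinj : ∀ V : Opens X, Function.Injective (((LocCohZ.sectSuppF U).map S.f).hom.app (op V)).hom := by
    intro V a b hab
    apply incl_injective U
    apply app_injective_of_mono S.f V
    rw [← incl_map, ← incl_map]
    exact congrArg _ hab
  haveI hmono : Mono ((LocCohZ.sectSuppF U).map S.f) := by
    haveI : Mono ((LocCohZ.sectSuppF U).map S.f).hom := by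
      haveI : ∀ V, Mono (((LocCohZ.sectSuppF U).map S.f).hom.app V) := fun V =>
        (AddCommGrpCat.mono_iff_injective _).2 (hinj V.unop)
      exact NatTrans.mono_of_mono_app _
    exact (sheafToPresheaf JX AddCommGrpCat.{u}).mono_of_mono_map this
  refine ⟨?_, hmono⟩
  let G := LocCohZ.sectSuppF U
  let l : G.obj S.X₁ ⟶ kernel (G.map S.g) :=
    kernel.lift (G.map S.g) (G.map S.f) (by rw [← G.map_comp, S.zero, G.map_zero])
  have hl : l ≫ kernel.ι (G.map S.g) = G.map S.f := kernel.lift_ι _ _ _
  haveI : IsIso l := by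
    haveI : IsIso l.hom := by
      haveI : ∀ V, IsIso (l.hom.app V) := by
        intro V
        refine (ConcreteCategory.isIso_iff_bijective _).2 ⟨fun a b hab => hinj V.unop ?_, fun t => ?_⟩
        · rw [← hl]
          exact congrArg ((kernel.ι (G.map S.g)).hom.app V).hom hab
        · let s := incl U S.X₂ V.unop (((kernel.ι (G.map S.g)).hom.app V).hom t)
          have h0 : ((G.map S.g).hom.app V).hom (((kernel.ι (G.map S.g)).hom.app V).hom t) = 0 :=
            (exists_kernel_section_iff _ V.unop _).1 ⟨t, rfl⟩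
          obtain ⟨a, ha⟩ := exists_section_of_shortExact hS V.unop s (by
            refine (incl_map U S.g V.unop _).symm.trans ?_
            exact (congrArg (incl U S.X₃ V.unop) h0).trans (map_zero _))
          have hz : S.X₁.obj.map (homOfLE (inf_le_right : U ⊓ V.unop ≤ V.unop)).op a = 0 := by
            apply app_injective_of_mono S.f (U ⊓ V.unop)
            refine (ConcreteCategory.congr_hom (S.f.hom.naturality (homOfLE (inf_le_right : U ⊓ V.unop ≤ V.unop)).op) a).trans ?_
            refine ((congrArg _ ha).trans ((range_incl U S.X₂ V.unop s).1 ⟨_, rfl⟩)).trans ?_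
            exact (map_zero _).symm
          obtain ⟨a', ha'⟩ := (range_incl U S.X₁ V.unop a).2 hz
          refine ⟨a', kernel_ι_injective _ _ (incl_injective U S.X₂ V.unop ?_)⟩
          refine Eq.trans (congrArg (fun m => incl U S.X₂ V.unop ((m.hom.app V).hom a')) hl) ?_
          refine (incl_map U S.f V.unop a').trans ?_
          rw [ha']
          exact ha
      exact NatIso.isIso_of_isIso_app _
    haveI : IsIso ((sheafToPresheaf JX AddCommGrpCat.{u}).map l) := by assumption
    exact isIso_of_reflects_iso l (sheafToPresheaf JX AddCommGrpCat.{u})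
  refine ShortComplex.exact_of_f_is_kernel _ ?_
  exact IsKernel.isoKernel _ (G.map S.f) (kernelIsKernel (G.map S.g)) (asIso l) hl

theorem preservesFiniteLimits_sectSuppF : PreservesFiniteLimits (LocCohZ.sectSuppF U) :=
  (Functor.preservesFiniteLimits_iff_forall_exact_map_and_mono _).2 fun _ hS => exact_map_and_mono U hS

/-- Flasque sheaves are acyclic for sections with supports. -/
theorem isZero_HZsh (F : CohTop.Ab X) (hF : TopCat.Sheaf.IsFlasque F) (i : ℕ) :
    IsZero ((LocCohZ.HZsh U (i + 1)).obj F) := by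
  haveI := preservesFiniteLimits_sectSuppF U
  refine QCoh.isZero_rightDerived_of_class (LocCohZ.sectSuppF U) (fun G => TopCat.Sheaf.IsFlasque G)
    (fun {S} hS h₁ h₂ => ?_) (fun {S} hS h₁ _ => ?_) F hF i
  · haveI := h₁
    haveI := h₂
    haveI := SiteBase.isFlasque_of_injective S.X₂
    exact TopCat.Sheaf.IsFlasque.of_shortExact_of_isFlasque₁₂ hS
  · haveI := h₁
    refine (TopCat.Sheaf.isLocallySurjective_iff_epi _).1
      ((TopCat.Presheaf.isLocallySurjective_iff _).2 fun V t y hy => ?_)
    refine ⟨V, le_rfl, ?_, hy⟩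
    obtain ⟨b, hb⟩ := (AddCommGrpCat.epi_iff_surjective _).1
      (TopCat.Sheaf.IsFlasque.epi_of_shortExact (U := V) hS) (incl U S.X₃ V t)
    have hle : U ⊓ V ≤ V := inf_le_right
    have hz : (S.g.hom.app (op (U ⊓ V))).hom (S.X₂.obj.map (homOfLE hle).op b) = 0 := by
      refine (ConcreteCategory.congr_hom (S.g.hom.naturality (homOfLE hle).op) b).trans ?_
      exact (congrArg _ hb).trans ((range_incl U S.X₃ V _).1 ⟨t, rfl⟩)
    obtain ⟨a, ha⟩ := exists_section_of_shortExact hS _ _ hz
    obtain ⟨a', ha'⟩ := (AddCommGrpCat.epi_iff_surjective _).1 (h₁.epi (homOfLE hle).op) a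
    obtain ⟨s, hs⟩ := (range_incl U S.X₂ V (b - (S.f.hom.app (op V)).hom a')).2 (by
      refine (map_sub (S.X₂.obj.map (homOfLE hle).op).hom _ _).trans (sub_eq_zero.2 ?_)
      refine ha.symm.trans (Eq.trans ?_ (ConcreteCategory.congr_hom (S.f.hom.naturality (homOfLE hle).op) a'))
      exact congrArg _ ha'.symm)
    refine ⟨s, incl_injective U S.X₃ V ?_⟩
    refine (incl_map U S.g V s).trans ?_
    rw [hs]
    refine (map_sub (S.g.hom.app (op V)).hom _ _).trans ?_
    have h0 : (S.g.hom.app (op V)).hom ((S.f.hom.app (op V)).hom a') = 0 :=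
      congrArg (fun φ => (φ.hom.app (op V)).hom a') S.zero
    rw [h0, sub_zero]
    refine hb.trans ?_
    simp [TopCat.Presheaf.restrictOpen, TopCat.Presheaf.restrict]

/-- Cohomology with supports of flasque sheaves vanishes. -/
theorem subsingleton_HZ (F : CohTop.Ab X) [TopCat.Sheaf.IsFlasque F] {W V : Opens X} (h : W ≤ V) (i : ℕ) :
    Subsingleton (LocCohZ.HZ F (i + 1) h) := by
  refine ⟨fun a b => sub_eq_zero.1 ?_⟩
  obtain ⟨x, hx⟩ : ∃ x : Abelian.Ext.{u} (LocCohZ.zqSeq h).X₁ F i,
      (LocCohZ.zqSeq_shortExact h).extClass.comp x (show 1 + i = i + 1 by omega) = a - b :=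
    Abelian.Ext.contravariant_sequence_exact₃ (LocCohZ.zqSeq_shortExact h) F (a - b)
      ((SiteBase.subsingleton_HU_of_isFlasque F V i).elim _ _) (show 1 + i = i + 1 by omega)
  obtain rfl | ⟨j, rfl⟩ : i = 0 ∨ ∃ j, i = j + 1 := by cases i <;> simp
  · obtain ⟨φ, rfl⟩ := Abelian.Ext.addEquiv₀.symm.surjective x
    obtain ⟨s, hs⟩ := (AddCommGrpCat.epi_iff_surjective _).1
      (TopCat.Presheaf.IsFlasque.epi (F := F.obj) (homOfLE h).op) (CohFree.evalGen JX W F φ)
    have : φ = (LocCohZ.zqSeq h).f ≫ CohFree.ofSect JX V F s := by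
      apply (CohFree.homEquivSect JX W F).injective
      refine hs.symm.trans ?_
      refine Eq.trans ?_ (CohFree.evalGen_freeSheafMap_comp JX (homOfLE h) F (CohFree.ofSect JX V F s)).symm
      rw [CohFree.evalGen_ofSect]
    rw [← hx, this, Abelian.Ext.addEquiv₀_symm_apply, ← Abelian.Ext.mk₀_comp_mk₀,
      ← Abelian.Ext.comp_assoc_of_second_deg_zero, ShortComplex.ShortExact.extClass_comp,
      Abelian.Ext.zero_comp]
    all_goals rfl
  · refine hx.symm.trans ((congrArg (fun y => Abelian.Ext.comp (LocCohZ.zqSeq_shortExact h).extClass y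
      (show 1 + (j + 1) = j + 1 + 1 by omega)) ((SiteBase.subsingleton_HU_of_isFlasque F W j).elim x 0)).trans ?_)
    exact Abelian.Ext.comp_zero (LocCohZ.zqSeq_shortExact h).extClass F (j + 1) (j + 1 + 1) _

end Groth.Agent.FlasqueSupp
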